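import Cfsg.Agent.Helper28.O73C.LvD6
set_option autoImplicit false
set_option maxRecDepth 1000000
namespace Cfsg.Agent.Helper28.O73C
open Cfsg.Agent.Helper28 Cfsg.Agent.Helper28.Fi22P1
theorem orb_ok6_p0 : allLtFrom (orbOkW ws6 1 ptabs orb6) 0 364 = true := by decide +kernel
theorem let_ok6 : lettersOkW ws6 1 ptabs.L = true := by decide +kernel
theorem fix_ok6 : fixOkW ws6 1 ptabs [278, 121, 303, 1, 0] = true := by decide +kernel
theorem cnt6 : countEq (fun j => oRoot (orb6 j)) 66 364 = 2 := by decide +kernel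
end Cfsg.Agent.Helper28.O73C
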