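import Cfsg.Agent.Helper28.O73C.LvC1_0
import Cfsg.Agent.Helper28.O73C.LvC2_0
import Cfsg.Agent.Helper28.O73C.LvC3_0
import Cfsg.Agent.Helper28.O73C.LvC4_0
import Cfsg.Agent.Helper28.O73C.LvC5_0
import Cfsg.Agent.Helper28.O73C.LvC6_0
import Cfsg.Agent.Helper28.O73C.LvC7_0
set_option autoImplicit false
set_option maxRecDepth 1000000
namespace Cfsg.Agent.Helper28.O73C
open Cfsg.Agent.Helper28 Cfsg.Agent.Helper28.Fi22P1
theorem orb_ok1 : checkOrbW ws1 8 ptabs orb1 = true := by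
  have h0 : allLt (orbOkW ws1 8 ptabs orb1) 364 = true := allLt_extend _ 0 364 364 rfl (allLt_zero _) orb_ok1_p0
  exact h0
theorem orb_ok2 : checkOrbW ws2 7 ptabs orb2 = true := by
  have h0 : allLt (orbOkW ws2 7 ptabs orb2) 364 = true := allLt_extend _ 0 364 364 rfl (allLt_zero _) orb_ok2_p0
  exact h0
theorem orb_ok3 : checkOrbW ws3 2 ptabs orb3 = true := by
  have h0 : allLt (orbOkW ws3 2 ptabs orb3) 364 = true := allLt_extend _ 0 364 364 rfl (allLt_zero _) orb_ok3_p0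
  exact h0
theorem orb_ok4 : checkOrbW ws4 2 ptabs orb4 = true := by
  have h0 : allLt (orbOkW ws4 2 ptabs orb4) 364 = true := allLt_extend _ 0 364 364 rfl (allLt_zero _) orb_ok4_p0
  exact h0
theorem orb_ok5 : checkOrbW ws5 1 ptabs orb5 = true := by
  have h0 : allLt (orbOkW ws5 1 ptabs orb5) 364 = true := allLt_extend _ 0 364 364 rfl (allLt_zero _) orb_ok5_p0
  exact h0
theorem orb_ok6 : checkOrbW ws6 1 ptabs orb6 = true := by
  have h0 : allLt (orbOkW ws6 1 ptabs orb6) 364 = true := allLt_extend _ 0 364 364 rfl (allLt_zero _) orb_ok6_p0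
  exact h0
theorem orb_ok7 : checkOrbW ws7 1 ptabs orb7 = true := by
  have h0 : allLt (orbOkW ws7 1 ptabs orb7) 364 = true := allLt_extend _ 0 364 364 rfl (allLt_zero _) orb_ok7_p0
  exact h0

theorem lower_bound : 4585351680 ≤ Nat.card ↥(KK idx 8 ptabs inv_ok layout.hL) := by
  have h7 := level_ge gen idx 8 ptabs inv_ok layout.hL layout.hig ws7 1 let_ok7 [66, 278, 121, 303, 1, 0] fix_ok7 orb7 orb_ok7 189 (by decide +kernel) 2 1 cnt7 (one_le_card_sub _)
  have h6 := level_ge gen idx 8 ptabs inv_ok layout.hL layout.hig ws6 1 let_ok6 [278, 121, 303, 1, 0] fix_ok6 orb6 orb_ok6 66 (by decide +kernel) 2 (2 * 1) cnt6 h7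
  have h5 := level_ge gen idx 8 ptabs inv_ok layout.hL layout.hig ws5 1 let_ok5 [121, 303, 1, 0] fix_ok5 orb5 orb_ok5 278 (by decide +kernel) 6 (2 * 2 * 1) cnt5 h6
  have h4 := level_ge gen idx 8 ptabs inv_ok layout.hL layout.hig ws4 2 let_ok4 [303, 1, 0] fix_ok4 orb4 orb_ok4 121 (by decide +kernel) 27 (6 * 2 * 2 * 1) cnt4 h5
  have h3 := level_ge gen idx 8 ptabs inv_ok layout.hL layout.hig ws3 2 let_ok3 [1, 0] fix_ok3 orb3 orb_ok3 303 (by decide +kernel) 80 (27 * 6 * 2 * 2 * 1) cnt3 h4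
  have h2 := level_ge gen idx 8 ptabs inv_ok layout.hL layout.hig ws2 7 let_ok2 [0] fix_ok2 orb2 orb_ok2 1 (by decide +kernel) 243 (80 * 27 * 6 * 2 * 2 * 1) cnt2 h3
  have h1 := level_ge gen idx 8 ptabs inv_ok layout.hL layout.hig ws1 8 let_ok1 [] fix_ok1 orb1 orb_ok1 0 (by decide +kernel) 364 (243 * 80 * 27 * 6 * 2 * 2 * 1) cnt1 h2
  rw [card_level0N]
  exact le_trans (by norm_num) h1

end Cfsg.Agent.Helper28.O73C
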